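import Mathlib

/-!
# Quasi-finite quotients through a point
-/

set_option autoImplicit false

open scoped TensorProduct

namespace Groth.Agent.UnivOpenFin5

universe u

/-- In a Noetherian domain a prime is minimal over `(a)` if every nonzero prime below it contains `a`. -/
theorem eq_of_forall_prime_le_mem {D : Type u} [CommRing D] [IsDomain D] [IsNoetherianRing D] {a : D}
    (ha : a ≠ 0) (P : Ideal D) [hP : P.IsPrime]
    (h : ∀ q : Ideal D, q.IsPrime → q ≤ P → q ≠ ⊥ → a ∈ q)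
    (q : Ideal D) (hq : q.IsPrime) (haq : a ∈ q) (hqP : q ≤ P) : q = P := by
  by_contra hne
  have hfin : (Ideal.span {a}).minimalPrimes.Finite :=
    Ideal.finite_minimalPrimes_of_isNoetherianRing D _
  have hsub : ¬ (P : Set D) ⊆ ⋃ I ∈ (hfin.toFinset : Set (Ideal D)), (I : Set D) := by
    rw [Ideal.subset_union_prime ⊥ ⊥ fun I hI _ _ => ((Set.Finite.mem_toFinset hfin).1 hI).1.1]
    rintro ⟨I, hI, hle⟩
    exact hne (le_antisymm hqP (hle.trans (((Set.Finite.mem_toFinset hfin).1 hI).2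
      ⟨hq, (Ideal.span_singleton_le_iff_mem _).2 haq⟩ (hqP.trans hle))))
  obtain ⟨b, hbP, hb⟩ := Set.not_subset.1 hsub
  obtain ⟨q', hq', hq'P⟩ := Ideal.exists_minimalPrimes_le
    ((Ideal.span_singleton_le_iff_mem P).2 hbP)
  have hb0 : q' ≠ ⊥ := fun e => by
    have hb1 : b ∈ q' := hq'.1.2 (Ideal.mem_span_singleton_self b)
    rw [e, Ideal.mem_bot] at hb1
    subst hb1
    obtain ⟨I, hI⟩ := (Ideal.span {a}).nonempty_minimalPrimes
      (fun e1 => hP.ne_top (top_le_iff.1 (e1 ▸ (Ideal.span_singleton_le_iff_mem P).2 (hqP haq))))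
    exact hb (Set.mem_biUnion ((Set.Finite.mem_toFinset hfin).2 hI) I.zero_mem)
  haveI := hq'.1.1
  obtain ⟨I, hI, hIq⟩ := Ideal.exists_minimalPrimes_le
    ((Ideal.span_singleton_le_iff_mem q').2 (h q' hq'.1.1 hq'P hb0))
  haveI := hI.1.1
  haveI : (Ideal.span {b}).IsPrincipal := ⟨⟨b, rfl⟩⟩
  have hlt : I < q' := lt_of_le_of_ne hIq fun e =>
    hb (Set.mem_biUnion ((Set.Finite.mem_toFinset hfin).2 (e ▸ hI))
      (hq'.1.2 (Ideal.mem_span_singleton_self b)))
  have h1 : q'.height ≤ 1 := Ideal.height_le_one_of_isPrincipal_of_mem_minimalPrimes _ q' hq'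
  have h2 : I.height < q'.height := Ideal.height_strict_mono_of_isPrime hlt
  have h3 : I.height = 0 := ENat.lt_one_iff_eq_zero.1 (h2.trans_le h1)
  rw [Ideal.height_eq_zero_iff_eq_bot] at h3
  exact ha (by simpa [h3] using hI.1.2 (Ideal.mem_span_singleton_self a))

/-- A prime that is minimal and maximal in its fibre is quasi-finite. -/
theorem quasiFiniteAt_of_isolated {R D : Type u} [CommRing R] [CommRing D] [Algebra R D] [IsNoetherianRing D]
    [Algebra.FiniteType R D] (y : Ideal R) (P : Ideal D) [hP : P.IsPrime] (hPy : P.comap (algebraMap R D) = y)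
    (hmin : ∀ q : Ideal D, q.IsPrime → q.comap (algebraMap R D) = y → q ≤ P → q = P)
    (hmax : ∀ q : Ideal D, q.IsPrime → q.comap (algebraMap R D) = y → P ≤ q → q = P) :
    Algebra.QuasiFiniteAt R P := by
  let x : PrimeSpectrum D := ⟨P, hP⟩
  refine Algebra.QuasiFiniteAt.of_isOpen_singleton_fiber x ?_
  let I₀ := y.map (algebraMap R D)
  let T : Set (Ideal D) := {I | I ∈ I₀.minimalPrimes ∧ ¬ I ≤ P}
  have hT : T.Finite := (Ideal.finite_minimalPrimes_of_isNoetherianRing D _).subset fun _ h => h.1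
  have hc : IsClosed (⋃ I ∈ T, PrimeSpectrum.zeroLocus (I : Set D)) :=
    hT.isClosed_biUnion fun I _ => PrimeSpectrum.isClosed_zeroLocus _
  refine isOpen_induced_iff.2 ⟨_, hc.isOpen_compl, ?_⟩
  ext ⟨z, hz⟩
  simp only [Set.mem_preimage, Set.mem_compl_iff, Set.mem_iUnion, not_exists, Set.mem_singleton_iff,
    Subtype.mk.injEq, PrimeSpectrum.mem_zeroLocus, SetLike.coe_subset_coe]
  constructor
  · intro hz'
    have hzy : z.asIdeal.comap (algebraMap R D) = y := (congrArg PrimeSpectrum.asIdeal hz).trans hPy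
    obtain ⟨I, hI, hIz⟩ := Ideal.exists_minimalPrimes_le (J := z.asIdeal)
      (show I₀ ≤ z.asIdeal from Ideal.map_le_iff_le_comap.2 hzy.ge)
    have hIP : I ≤ P := by_contra fun h => hz' I ⟨hI, h⟩ hIz
    have hIy : I.comap (algebraMap R D) = y := le_antisymm
      ((Ideal.comap_mono hIP).trans hPy.le) (Ideal.map_le_iff_le_comap.1 hI.1.2)
    exact PrimeSpectrum.ext (hmax _ z.2 hzy (hmin I hI.1.1 hIy hIP ▸ hIz))
  · rintro rfl I ⟨-, hne⟩ hIP
    exact hne hIP

/-- A nonzero element of an algebraic extension of domains divides a nonzero constant. -/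
theorem eq_of_algebraic_point {R B Ω : Type u} [CommRing R] [CommRing B] [Algebra R B] [Field Ω] [Algebra R Ω]
    (φ : B →ₐ[R] Ω) (halg : ∀ b, φ b ≠ 0 → ∃ f : Polynomial R, algebraMap R Ω (f.coeff 0) ≠ 0 ∧ Polynomial.aeval (φ b) f = 0) (q : Ideal B) [q.IsPrime]
    (hle : RingHom.ker φ ≤ q) (hq : q.comap (algebraMap R B) = RingHom.ker (algebraMap R Ω)) :
    q = RingHom.ker φ := by
  refine le_antisymm (fun b hb => ?_) hle
  by_contra hne
  obtain ⟨p, hp0, hp⟩ := halg b fun h => hne h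
  refine hp0 ?_
  have h1 : Polynomial.aeval b p ∈ q := hle (by
    rw [RingHom.mem_ker, ← Polynomial.aeval_algHom_apply]; exact hp)
  have h2 : algebraMap R B (p.coeff 0) ∈ q := by
    obtain ⟨r, hr⟩ := Polynomial.X_dvd_sub_C (p := p)
    have h3 := congrArg (Polynomial.aeval b) hr
    rw [map_sub, map_mul, Polynomial.aeval_X, Polynomial.aeval_C, sub_eq_iff_eq_add] at h3
    rw [h3] at h1
    exact (q.add_mem_iff_right (q.mul_mem_right _ hb)).1 h1
  have h3 : p.coeff 0 ∈ q.comap (algebraMap R B) := h2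
  rw [hq, RingHom.mem_ker] at h3
  exact h3

end Groth.Agent.UnivOpenFin5
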