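import Mathlib.AlgebraicGeometry.Normalization
import Mathlib.AlgebraicGeometry.Morphisms.Integral
import Mathlib.AlgebraicGeometry.Morphisms.Finite
import Groth.Agent.QCoh.AlgGen

/-!
# Extension of a finite morphism from an affine open
-/

set_option autoImplicit false
set_option linter.style.haveILetI false
set_option backward.isDefEq.respectTransparency false
set_option backward.isDefEq.respectTransparency.types false

open CategoryTheory Limits AlgebraicGeometry TopologicalSpace Opposite

namespace Groth.Agent.UnivOpenFin5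

universe u

variable {Y : Scheme.{u}}

/-- The subalgebras generated by a submodule, on the affine opens. -/
noncomputable def genFunctor (B : RelSpec.QCAlg Y) (N : QCoh.SubMod B.toModule) :
    Y.AffineZariskiSiteᵒᵖ ⥤ CommRingCat.{u} where
  obj U := CommRingCat.of (QCoh.genRing B N U.unop.1)
  map {U V} i := CommRingCat.ofHom
    (((QCoh.rB B ((Scheme.AffineZariskiSite.toOpens_mono (X := Y)) (leOfHom i.unop))).comp
      (QCoh.genRing B N U.unop.1).subtype).codRestrict _ fun b => QCoh.rB_mem_genRing B N _ b.2)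
  map_id U := by
    ext b
    exact congr($(B.presheaf.map_id (op U.unop.1)).hom b.1)
  map_comp {U V W} i j := by
    ext b
    exact congr($(B.presheaf.map_comp (homOfLE ((Scheme.AffineZariskiSite.toOpens_mono (X := Y)) (leOfHom i.unop))).op
      (homOfLE ((Scheme.AffineZariskiSite.toOpens_mono (X := Y)) (leOfHom j.unop))).op).hom b.1)

/-- The structure maps of the generated subalgebras. -/
noncomputable def genStr (B : RelSpec.QCAlg Y) (N : QCoh.SubMod B.toModule) :
    (Scheme.AffineZariskiSite.toOpensFunctor Y).op ⋙ Y.presheaf ⟶ genFunctor B N where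
  app U := CommRingCat.ofHom ((B.str.app (op U.unop.1)).hom.codRestrict _ fun a => QCoh.str_mem_genRing B N a)
  naturality U V i := by
    ext a
    exact Subtype.ext congr($(B.str.naturality ((Scheme.AffineZariskiSite.toOpensFunctor Y).map i.unop).op).hom a)

theorem genStr_coequifibered (B : RelSpec.QCAlg Y) (N : QCoh.SubMod B.toModule) (hN : QCoh.FTOn N ⊤) :
    (genStr B N).Coequifibered := by
  rw [Scheme.AffineZariskiSite.coequifibered_iff_forall_isLocalizationAway]
  intro U f
  letI := ((genFunctor B N).map (homOfLE (U.basicOpen_le f)).op).hom.toAlgebra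
  letI := (B.presheaf.map (homOfLE (Y.basicOpen_le f)).op).hom.toAlgebra
  haveI := B.isQC U.1 U.2 f
  have hu : IsUnit ((B.str.app (op (Y.basicOpen f))).hom (QCoh.rf Y (Y.basicOpen_le f) f)) :=
    (QCoh.isUnit_rf_basicOpen f).map _
  constructor
  refine ⟨?_, fun z => ?_, fun {a b} e => ?_⟩
  · rintro ⟨_, n, rfl⟩
    rw [map_pow]
    refine IsUnit.pow n ?_
    have h := (QCoh.isUnit_rf_basicOpen f).map ((genStr B N).app (op (U.basicOpen f))).hom
    have h2 := congr($((genStr B N).naturality (homOfLE (U.basicOpen_le f)).op).hom f)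
    exact h2 ▸ h
  · obtain ⟨n, c, hc, hcz⟩ := QCoh.exists_lift_genRing B hN U.2 f z.2
    refine ⟨⟨⟨c, hc⟩, _, n, rfl⟩, Subtype.ext ?_⟩
    show (show B.presheaf.obj (op (Y.basicOpen f)) from z.1) * QCoh.rB B (Y.basicOpen_le f) ((((genStr B N).app (op U)).hom f ^ n).1) = QCoh.rB B (Y.basicOpen_le f) c
    rw [hcz, SubmonoidClass.coe_pow, map_pow]
    rw [show ((((genStr B N).app (op U)).hom f)).1 = (B.str.app (op U.1)).hom f from rfl, QCoh.rB_str, mul_comm]
  · obtain ⟨⟨_, n, rfl⟩, hn⟩ := IsLocalization.exists_of_eq (M := Submonoid.powers ((B.str.app (op U.1)).hom f))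
      (S := B.presheaf.obj (op (Y.basicOpen f))) (congrArg Subtype.val e)
    exact ⟨⟨_, n, rfl⟩, Subtype.ext (by
      show (((genStr B N).app (op U)).hom f ^ n).1 * a.1 = (((genStr B N).app (op U)).hom f ^ n).1 * b.1
      rw [SubmonoidClass.coe_pow]
      exact hn)⟩

/-- A finite morphism to an affine open of a Noetherian scheme extends to a finite morphism. -/
theorem exists_finite_extend [IsNoetherian Y] {V : Y.Opens} (hV : IsAffineOpen V) {T : Scheme.{u}}
    (v : T ⟶ (V : Scheme.{u})) [IsFinite v] :
    ∃ (Y₁ : Scheme.{u}) (π : Y₁ ⟶ Y) (i : T ⟶ Y₁), IsOpenImmersion i ∧ IsFinite π ∧ i ≫ π = v ≫ V.ι := by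
  haveI : QuasiCompact V.ι := QCoh.quasiCompact_ι_of_compact V hV.isCompact
  haveI : QuasiCompact (v ≫ V.ι) := inferInstance
  haveI : QuasiSeparated (v ≫ V.ι) := inferInstance
  let ν := (v ≫ V.ι).fromNormalization
  haveI hfst : IsIso (pullback.fst (v ≫ V.ι) V.ι) := by
    refine ⟨pullback.lift (𝟙 T) v (by rw [Category.id_comp]), pullback.hom_ext
      (by rw [Category.assoc, pullback.lift_fst, Category.comp_id, Category.id_comp]) ?_, pullback.lift_fst _ _ _⟩
    rw [Category.assoc, pullback.lift_snd, Category.id_comp, ← cancel_mono V.ι]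
    simpa using pullback.condition
  haveI : IsIntegralHom (pullback.snd (v ≫ V.ι) V.ι) := by
    have h : pullback.snd (v ≫ V.ι) V.ι = pullback.fst (v ≫ V.ι) V.ι ≫ v := by
      rw [← cancel_mono V.ι, Category.assoc, ← pullback.condition]
    rw [h]; infer_instance
  let e : T ⟶ pullback ν V.ι :=
    inv (pullback.fst (v ≫ V.ι) V.ι) ≫ (pullback.snd (v ≫ V.ι) V.ι).toNormalization ≫
      (v ≫ V.ι).normalizationPullback V.ι
  haveI : IsIso e := inferInstance
  have he : (v ≫ V.ι).toNormalization = e ≫ pullback.fst _ _ := by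
    simp only [e, ν, Category.assoc, Scheme.Hom.toNormalization_normalizationPullback_fst]
    rw [IsIso.inv_hom_id_assoc]
  haveI : IsOpenImmersion (v ≫ V.ι).toNormalization := by rw [he]; infer_instance
  let W := ν ⁻¹ᵁ V
  have hW : IsAffineOpen W := hV.preimage ν
  have htn : Set.range (v ≫ V.ι).toNormalization = Set.range W.ι := by
    rw [Scheme.Opens.range_ι, he, Scheme.Hom.comp_base, TopCat.coe_comp, Set.range_comp,
      Function.Surjective.range_eq (show Function.Surjective e from (Scheme.homeoOfIso (asIso e)).surjective),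
      Set.image_univ, Scheme.Pullback.range_fst, Scheme.Opens.range_ι]
    rfl
  let eT : T ≅ (W : Scheme.{u}) := IsOpenImmersion.isoOfRangeEq (v ≫ V.ι).toNormalization W.ι htn
  have heT : eT.hom ≫ W.ι ≫ ν = v ≫ V.ι := by
    rw [← Category.assoc, IsOpenImmersion.isoOfRangeEq_hom_fac, Scheme.Hom.toNormalization_fromNormalization]
  haveI : IsAffine (V : Scheme.{u}) := hV
  haveI : IsAffine (W : Scheme.{u}) := hW
  have hfin : (ν.app V).hom.Finite := by
    rw [← IsFinite.SpecMap_iff]
    have hSpec : Spec.map (ν.app V) = hW.isoSpec.inv ≫ eT.inv ≫ v ≫ hV.isoSpec.hom := by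
      rw [← cancel_mono hV.isoSpec.inv, Category.assoc, Category.assoc, Category.assoc, Iso.hom_inv_id,
        Category.comp_id, ← cancel_mono V.ι, Category.assoc, Category.assoc, Category.assoc]
      refine Eq.trans ?_ (congrArg (fun h => hW.isoSpec.inv ≫ eT.inv ≫ h) heT)
      rw [Iso.inv_hom_id_assoc]
      have := IsAffineOpen.SpecMap_appLE_fromSpec ν hV hW (le_refl W)
      rw [Scheme.Hom.app_eq_appLE]
      simp only [IsAffineOpen.fromSpec, Category.assoc] at this
      exact this
    rw [hSpec]
    infer_instance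
  let B : RelSpec.QCAlg Y := RelSpec.QCAlg.directImage ν
  have hG := QCoh.isQCoh_toModule B
  letI := (B.str.app (op V)).hom.toAlgebra
  haveI hBfin : Module.Finite Γ(Y, V) (B.presheaf.obj (op V)) := hfin
  obtain ⟨S, hS⟩ := hBfin.fg_top
  obtain ⟨N, hN, hSN⟩ := QCoh.exists_ftOn_contains hG hV (QCoh.extStep_qcqs hV.isCompact)
    (show Set Γ(B.toModule, V) from (S : Set (B.presheaf.obj (op V)))) S.finite_toSet
  have hV' : QCoh.genRing B N V = ⊤ := by
    refine eq_top_iff.2 fun b _ => ?_
    have hb : b ∈ Submodule.span Γ(Y, V) (S : Set (B.presheaf.obj (op V))) := hS ▸ Submodule.mem_top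
    refine Submodule.span_induction (p := fun x _ => x ∈ QCoh.genRing B N V) ?_ ?_ ?_ ?_ hb
    · exact fun x hx => Subring.subset_closure (Or.inr (hSN hx))
    · exact zero_mem _
    · exact fun x y _ _ hx hy => add_mem hx hy
    · intro a x _ hx
      rw [Algebra.smul_def]
      exact mul_mem (QCoh.str_mem_genRing B N a) hx
  let d := Scheme.AffineZariskiSite.relativeGluingData (genStr_coequifibered B N hN)
  haveI : (d.functor ⋙ Scheme.forget).IsLocallyDirected :=
    Scheme.Cover.RelativeGluingData.instIsLocallyDirectedI₀CompFunctorForgetOfIsThin ..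
  -- the structure morphism is finite
  have hπ : IsFinite d.toBase := by
    choose Vx hVx hxVx _ Tx hTx using fun x : Y => hN x trivial
    refine (IsZariskiLocalAtTarget.iff_of_iSup_eq_top (P := @IsFinite) Vx
      (eq_top_iff.2 fun x _ => Opens.mem_iSup.2 ⟨x, hxVx x⟩)).2 fun x => ?_
    let U : Y.AffineZariskiSite := ⟨Vx x, hVx x⟩
    have h2 := d.isPullback_natTrans_ι_toBase U
    refine (MorphismProperty.arrow_mk_iso_iff @IsFinite
      (Arrow.isoMk ((isPullback_morphismRestrict d.toBase (Vx x)).flip.isoIsPullback _ _ h2.flip) (Iso.refl _)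
        ((IsPullback.isoIsPullback_hom_snd _ _ _ _).trans (Category.comp_id _).symm))).2 ?_
    have hfin' : ((genStr B N).app (op U)).hom.Finite := by
      letI := (B.str.app (op (Vx x))).hom.toAlgebra
      let A : Subalgebra Γ(Y, Vx x) (B.presheaf.obj (op (Vx x))) :=
        { (QCoh.genRing B N (Vx x)).toSubsemiring with algebraMap_mem' := fun a => QCoh.str_mem_genRing B N a }
      have hA : A = Algebra.adjoin Γ(Y, Vx x) (show Set (B.presheaf.obj (op (Vx x))) from Tx x) := by
        refine le_antisymm (fun b (hb : b ∈ QCoh.genRing B N (Vx x)) => ?_) (Algebra.adjoin_le fun t ht =>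
          Subring.subset_closure (Or.inr ((hTx x).mem t ht)))
        induction hb using Subring.closure_induction with
        | mem y hy =>
          rcases hy with ⟨a, rfl⟩ | hy
          · exact Subalgebra.algebraMap_mem _ a
          · have h3 := (hTx x).mem_span hG (hVx x) (show (show Γ(B.toModule, Vx x) from y) ∈ N.mem (Vx x) from hy)
            exact Algebra.span_le_adjoin _ _ h3
        | zero => exact zero_mem _
        | one => exact one_mem _
        | add a b _ _ ha hb => exact add_mem ha hb
        | neg a _ ha => exact neg_mem ha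
        | mul a b _ _ ha hb => exact mul_mem ha hb
      have hint : ∀ b : B.presheaf.obj (op (Vx x)), IsIntegral Γ(Y, Vx x) b := fun b =>
        (IsIntegralHom.isIntegral_app (f := ν) (Vx x) (hVx x)) b
      haveI : Module.Finite Γ(Y, Vx x) A := by
        rw [hA]
        exact Algebra.finite_adjoin_of_finite_of_isIntegral (hTx x).fin fun t _ => hint t
      exact RingHom.finite_algebraMap.2 ‹Module.Finite Γ(Y, Vx x) A›
    haveI : IsFinite (Spec.map ((genStr B N).app (op U))) := (IsFinite.SpecMap_iff _).2 hfin'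
    show IsFinite (Spec.map ((genStr B N).app (op U)) ≫ (Scheme.AffineZariskiSite.restrictIsoSpec Y).inv.app U)
    infer_instance
  let V₀ : Y.AffineZariskiSite := ⟨V, hV⟩
  let q : (genFunctor B N).obj (op V₀) ⟶ Γ((v ≫ V.ι).normalization, W) :=
    CommRingCat.ofHom (QCoh.genRing B N V).subtype
  haveI : IsIso q := (ConcreteCategory.isIso_iff_bijective q).2 ⟨Subtype.val_injective, fun b =>
    ⟨⟨b, show b ∈ QCoh.genRing B N V by rw [hV']; trivial⟩, rfl⟩⟩
  refine ⟨d.glued, d.toBase, eT.hom ≫ hW.isoSpec.hom ≫ Spec.map q ≫ colimit.ι d.functor V₀,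
    inferInstance, hπ, ?_⟩
  rw [Category.assoc, Category.assoc, Category.assoc, d.ι_toBase]
  show eT.hom ≫ hW.isoSpec.hom ≫ Spec.map q ≫
    (Spec.map ((genStr B N).app (op V₀)) ≫ hV.isoSpec.inv) ≫ V.ι = _
  rw [Category.assoc, ← Spec.map_comp_assoc, show (genStr B N).app (op V₀) ≫ q = ν.app V from rfl]
  have := IsAffineOpen.SpecMap_appLE_fromSpec ν hV hW (le_refl W)
  rw [← Scheme.Hom.app_eq_appLE] at this
  rw [show hV.isoSpec.inv ≫ V.ι = hV.fromSpec from rfl, this]
  refine Eq.trans ?_ heT
  rw [IsAffineOpen.fromSpec, Category.assoc, Iso.hom_inv_id_assoc]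

end Groth.Agent.UnivOpenFin5
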