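import Mathlib

/-!
# Coordinates of polynomials along a field extension
-/

set_option autoImplicit false

open MvPolynomial

namespace Groth.Agent.UnivOpenFin5

universe u v w

variable {σ : Type u} {K : Type v} {Ω : Type w} [Field K] [Field Ω] [Algebra K Ω]
  {ι : Type*} (b : Module.Basis ι K Ω)

/-- The `i`-th coordinate of a polynomial over `Ω` in a basis over `K`. -/
noncomputable def comp (i : ι) (u : MvPolynomial σ Ω) : MvPolynomial σ K :=
  ∑ d ∈ u.support, monomial d (b.coord i (coeff d u))

theorem coeff_comp (i : ι) (u : MvPolynomial σ Ω) (d : σ →₀ ℕ) :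
    coeff d (comp b i u) = b.coord i (coeff d u) := by
  classical
  rw [comp, coeff_sum]
  simp only [coeff_monomial]
  rw [Finset.sum_ite_eq']
  split_ifs with h
  · rfl
  · rw [notMem_support_iff.1 h, map_zero]

theorem comp_add (i : ι) (u v : MvPolynomial σ Ω) : comp b i (u + v) = comp b i u + comp b i v := by
  ext d
  simp only [coeff_comp, coeff_add, map_add]

theorem comp_zero (i : ι) : comp b i (0 : MvPolynomial σ Ω) = 0 := by
  ext d
  simp only [coeff_comp, coeff_zero, map_zero]

theorem comp_map_mul (i : ι) (g : MvPolynomial σ K) (u : MvPolynomial σ Ω) :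
    comp b i (map (algebraMap K Ω) g * u) = g * comp b i u := by
  classical
  ext d
  rw [coeff_comp, coeff_mul, coeff_mul, map_sum]
  refine Finset.sum_congr rfl fun x _ => ?_
  rw [coeff_map, ← Algebra.smul_def, map_smul, coeff_comp, smul_eq_mul]

theorem comp_mem {G : Ideal (MvPolynomial σ K)} {u : MvPolynomial σ Ω}
    (hu : u ∈ G.map (map (algebraMap K Ω))) (i : ι) : comp b i u ∈ G := by
  suffices ∀ c, comp b i (c * u) ∈ G by simpa using this 1
  refine Submodule.span_induction (p := fun x _ => ∀ c, comp b i (c * x) ∈ G) ?_ ?_ ?_ ?_ hu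
  · rintro _ ⟨g, hg, rfl⟩ c
    rw [mul_comm, comp_map_mul]
    exact G.mul_mem_right _ hg
  · intro c; rw [mul_zero, comp_zero]; exact zero_mem _
  · intro x y _ _ hx hy c
    rw [mul_add, comp_add]
    exact add_mem (hx c) (hy c)
  · intro a x _ hx c
    rw [smul_eq_mul, ← mul_assoc]
    exact hx _

theorem eval_eq_zero_of_comp (θ : σ → Ω) (u : MvPolynomial σ Ω)
    (h : ∀ i, aeval θ (comp b i u) = 0) : eval θ u = 0 := by
  classical
  let I : Finset ι := u.support.biUnion fun d => (b.repr (coeff d u)).support
  suffices u = ∑ i ∈ I, C (b i) * map (algebraMap K Ω) (comp b i u) by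
    rw [this, map_sum]
    refine Finset.sum_eq_zero fun i _ => ?_
    rw [map_mul, eval_map, ← aeval_def, h, mul_zero]
  ext d
  rw [coeff_sum]
  simp only [coeff_C_mul, coeff_map, coeff_comp, Module.Basis.coord_apply]
  by_cases hd : d ∈ u.support
  · have hsub : (b.repr (coeff d u)).support ⊆ I := fun i hi => Finset.mem_biUnion.2 ⟨d, hd, hi⟩
    conv_lhs => rw [← b.linearCombination_repr (coeff d u)]
    rw [Finsupp.linearCombination_apply, Finsupp.sum_of_support_subset _ hsub (fun i a => a • b i) fun i _ => zero_smul _ _]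
    exact Finset.sum_congr rfl fun i _ => by rw [Algebra.smul_def, mul_comm]
  · rw [notMem_support_iff.1 hd]
    simp

theorem eval_comp (ω : σ → K) (u : MvPolynomial σ Ω) (i : ι) :
    eval ω (comp b i u) = b.coord i (eval (fun s => algebraMap K Ω (ω s)) u) := by
  classical
  rw [comp, map_sum, eval_eq (f := u), map_sum]
  refine Finset.sum_congr rfl fun d _ => ?_
  rw [eval_monomial, Finsupp.prod, mul_comm]
  simp only [← map_pow, ← map_prod]
  rw [mul_comm (coeff d u), ← Algebra.smul_def, map_smul, smul_eq_mul]

end Groth.Agent.UnivOpenFin5
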