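import Mathlib
import Groth.Prelude.Def_EGA43
import Groth.Agent.UnivOpenFin5.Coords
import Groth.Agent.UnivOpenFin5.QuasiFin

/-!
# Openness after finite base change lifts generizations on affine spaces
-/

set_option autoImplicit false
set_option linter.style.haveILetI false

open scoped TensorProduct
open MvPolynomial

namespace Groth.Agent.UnivOpenFin5

universe u

variable {R S σ : Type u} [CommRing R] [CommRing S] [Algebra R S]

/-- Polynomials over the residue field are polynomials over `R` up to a denominator. -/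
theorem exists_denom (y : Ideal R) [y.IsPrime] (f : MvPolynomial σ y.ResidueField) :
    ∃ s : R, s ∉ y ∧ ∃ g : MvPolynomial σ R,
      C (algebraMap R y.ResidueField s) * f = MvPolynomial.map (algebraMap R y.ResidueField) g := by
  induction f using MvPolynomial.induction_on' with
  | monomial d c =>
    obtain ⟨⟨a⟩, ⟨s⟩, hs, rfl⟩ := IsFractionRing.div_surjective (A := R ⧸ y) c
    refine ⟨s, fun h => nonZeroDivisors.ne_zero hs (Ideal.Quotient.eq_zero_iff_mem.2 h), monomial d a, ?_⟩
    rw [C_mul_monomial, map_monomial]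
    congr 1
    have hs0 : algebraMap R y.ResidueField s ≠ 0 := fun h =>
      nonZeroDivisors.ne_zero hs (Ideal.Quotient.eq_zero_iff_mem.2
        ((Ideal.algebraMap_residueField_eq_zero).1 h))
    show algebraMap R y.ResidueField s * (algebraMap R y.ResidueField a / algebraMap R y.ResidueField s) = _
    field_simp
  | add f g hf hg =>
    obtain ⟨s, hs, a, ha⟩ := hf
    obtain ⟨t, ht, b, hb⟩ := hg
    refine ⟨s * t, y.primeCompl.mul_mem hs ht, C t * a + C s * b, ?_⟩
    rw [map_add (MvPolynomial.map _), map_mul (MvPolynomial.map _), map_mul (MvPolynomial.map _), map_C, map_C,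
      ← ha, ← hb, map_mul, map_mul]
    ring

/-- Zariski's main theorem at a geometric point of a quotient domain. -/
theorem exists_away_point {B Ω : Type u} [CommRing B] [Algebra R B] [Algebra.FiniteType R B] [Field Ω] [Algebra R Ω]
    (φ : B →ₐ[R] Ω) (w : Ideal B) [w.IsPrime] (hw : w ≤ RingHom.ker φ)
    [((RingHom.ker φ).map (Ideal.Quotient.mk w)).IsPrime]
    (hqf : Algebra.QuasiFiniteAt R ((RingHom.ker φ).map (Ideal.Quotient.mk w))) :
    ∃ (B' : Type u) (_ : CommRing B') (_ : Algebra R B') (_ : Module.Finite R B') (r₀ : B')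
      (χ : B →ₐ[R] Localization.Away r₀) (ε : Localization.Away r₀ →ₐ[R] Ω),
      (∀ g, ε (χ g) = φ g) ∧ (∀ g, χ g = 0 ↔ g ∈ w) ∧ IsDomain (Localization.Away r₀) := by
  haveI := hqf
  haveI : Algebra.FiniteType R (B ⧸ w) :=
    .of_surjective (Ideal.Quotient.mkₐ R w) (Ideal.Quotient.mkₐ_surjective R w)
  obtain ⟨B', hB', r₀, hr₀P, hbij⟩ :=
    Algebra.QuasiFiniteAt.exists_fg_and_exists_notMem_and_awayMap_bijective (R := R)
      ((RingHom.ker φ).map (Ideal.Quotient.mk w))
  haveI : Module.Finite R B' := ⟨(Submodule.fg_top _).mpr hB'⟩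
  let φD : B ⧸ w →ₐ[R] Ω := Ideal.Quotient.liftₐ w φ fun g hg => hw hg
  have hr₀ : φD (r₀ : B ⧸ w) ≠ 0 := by
    intro e
    obtain ⟨g, hg⟩ := Ideal.Quotient.mk_surjective (r₀ : B ⧸ w)
    rw [← hg] at e
    exact hr₀P (hg ▸ Ideal.mem_map_of_mem _ (show g ∈ RingHom.ker φ from e))
  let AD := Localization.Away (B'.val r₀)
  have hr0 : (r₀ : B ⧸ w) ≠ 0 := fun e => hr₀ (by rw [e, map_zero])
  have hM : Submonoid.powers (B'.val r₀) ≤ nonZeroDivisors (B ⧸ w) :=
    powers_le_nonZeroDivisors_of_noZeroDivisors hr0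
  haveI : IsDomain AD := IsLocalization.isDomain_localization hM
  let eA : Localization.Away r₀ ≃ₐ[R] AD :=
    AlgEquiv.ofBijective (Localization.awayMapₐ B'.val r₀) hbij
  let εD : AD →ₐ[R] Ω := IsLocalization.liftAlgHom (M := Submonoid.powers (B'.val r₀)) (f := φD) (by
    rintro ⟨_, n, rfl⟩
    exact isUnit_iff_ne_zero.2 (by rw [map_pow]; exact pow_ne_zero _ hr₀))
  refine ⟨B', inferInstance, inferInstance, inferInstance, r₀,
    eA.symm.toAlgHom.comp ((IsScalarTower.toAlgHom R (B ⧸ w) AD).comp (Ideal.Quotient.mkₐ R w)),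
    εD.comp eA.toAlgHom, fun g => ?_, fun g => ?_, eA.toRingEquiv.toMulEquiv.isDomain _⟩
  · show εD (eA (eA.symm (algebraMap (B ⧸ w) AD (Ideal.Quotient.mk w g)))) = _
    rw [eA.apply_symm_apply]
    exact IsLocalization.lift_eq _ _
  · show eA.symm (algebraMap (B ⧸ w) AD (Ideal.Quotient.mk w g)) = 0 ↔ _
    exact (map_eq_zero_iff _ eA.symm.injective).trans
      ((map_eq_zero_iff _ (IsLocalization.injective AD hM)).trans Ideal.Quotient.eq_zero_iff_mem)

/-- If a generization of the image of a prime of `S ⊗ R[T]` does not lift, openness fails after a finite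
base change. -/
theorem exists_prime_lift [IsNoetherianRing R] [Finite σ] (p : Ideal (S ⊗[R] MvPolynomial σ R)) [p.IsPrime]
    (H : ∀ (B' : Type u) [CommRing B'] [Algebra R B'] [Module.Finite R B'] (r₀ : B')
      (Q : PrimeSpectrum (S ⊗[R] Localization.Away r₀)),
      Q.asIdeal.comap (Algebra.TensorProduct.includeLeftRingHom (R := R) (A := S) (B := Localization.Away r₀)) =
        p.comap (Algebra.TensorProduct.includeLeftRingHom (R := R) (A := S) (B := MvPolynomial σ R)) →
      EGA43.IsOpenAt (PrimeSpectrum.comap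
        (Algebra.TensorProduct.includeRight (R := R) (A := S) (B := Localization.Away r₀)).toRingHom) Q)
    (r : Ideal (MvPolynomial σ R)) [hr' : r.IsPrime]
    (hr : r ≤ p.comap (Algebra.TensorProduct.includeRight (R := R) (A := S)).toRingHom) :
    ∃ q : Ideal (S ⊗[R] MvPolynomial σ R), q.IsPrime ∧ q ≤ p ∧
      q.comap (Algebra.TensorProduct.includeRight (R := R) (A := S)).toRingHom = r := by
  classical
  let ι₂ : MvPolynomial σ R →ₐ[R] S ⊗[R] MvPolynomial σ R := Algebra.TensorProduct.includeRight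
  let ι₁ : S →ₐ[R] S ⊗[R] MvPolynomial σ R := Algebra.TensorProduct.includeLeft
  let I := r.map ι₂.toRingHom
  let M := p.primeCompl ⊔ r.primeCompl.map ι₂.toRingHom.toMonoidHom
  by_cases hdisj : Disjoint (I : Set (S ⊗[R] MvPolynomial σ R)) M
  · obtain ⟨q, hq, hIq, hqM⟩ := Ideal.exists_le_prime_disjoint I M hdisj
    refine ⟨q, hq, fun x hx => by_contra fun hxp => Set.disjoint_left.1 hqM hx (Submonoid.mem_sup_left hxp),
      le_antisymm (fun a ha => ?_) (Ideal.map_le_iff_le_comap.1 hIq)⟩
    by_contra har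
    exact Set.disjoint_left.1 hqM ha (Submonoid.mem_sup_right ⟨a, har, rfl⟩)
  exfalso
  obtain ⟨z, hzI, hzM⟩ := Set.not_disjoint_iff.1 hdisj
  obtain ⟨h, hhp, _, ⟨a, har, rfl⟩, rfl⟩ := Submonoid.mem_sup.1 hzM
  -- the geometric point
  let Ω := AlgebraicClosure p.ResidueField
  let ev : S ⊗[R] MvPolynomial σ R →ₐ[R] Ω :=
    { algebraMap (S ⊗[R] MvPolynomial σ R) Ω with
      commutes' := fun t => (IsScalarTower.algebraMap_apply R (S ⊗[R] MvPolynomial σ R) Ω t).symm }
  have hev : ∀ x, ev x = 0 ↔ x ∈ p := fun x => by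
    show algebraMap (S ⊗[R] MvPolynomial σ R) Ω x = 0 ↔ _
    rw [IsScalarTower.algebraMap_apply _ p.ResidueField Ω, map_eq_zero, Ideal.algebraMap_residueField_eq_zero]
  let θ : σ → Ω := fun s => ev (ι₂ (X s))
  let y := RingHom.ker (algebraMap R Ω)
  haveI : y.IsPrime := RingHom.ker_isPrime _
  let K := y.ResidueField
  let jK : K →+* Ω := Ideal.ResidueField.lift y (algebraMap R Ω) le_rfl
    (fun t ht => isUnit_iff_ne_zero.2 ht)
  letI : Algebra K Ω := jK.toAlgebra
  have hjK : ∀ t, algebraMap K Ω (algebraMap R K t) = algebraMap R Ω t := fun t =>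
    Ideal.ResidueField.lift_algebraMap _ _ _ _ t
  haveI : IsScalarTower R K Ω := IsScalarTower.of_algebraMap_eq fun t => (hjK t).symm
  let μ : S ⊗[R] MvPolynomial σ R →ₐ[R] MvPolynomial σ Ω :=
    Algebra.TensorProduct.lift ((IsScalarTower.toAlgHom R Ω (MvPolynomial σ Ω)).comp (ev.comp ι₁))
      (MvPolynomial.aeval X) fun _ _ => Commute.all _ _
  have hμ₂ : ∀ g, μ (ι₂ g) = MvPolynomial.map (algebraMap K Ω) (MvPolynomial.map (algebraMap R K) g) := fun g => by
    simp only [μ, ι₂, Algebra.TensorProduct.includeRight_apply, Algebra.TensorProduct.lift_tmul, map_one, one_mul]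
    rw [MvPolynomial.map_map, ← IsScalarTower.algebraMap_eq]
    induction g using MvPolynomial.induction_on with
    | C t => simp [MvPolynomial.algebraMap_eq]
    | add f g hf hg => simp only [map_add, hf, hg]
    | mul_X f s hf => simp only [map_mul, hf, MvPolynomial.aeval_X, MvPolynomial.map_X]
  have hμ : ∀ x, eval θ (μ x) = ev x := by
    intro x
    induction x using TensorProduct.induction_on with
    | zero => simp
    | tmul s g =>
      simp only [μ, Algebra.TensorProduct.lift_tmul, map_mul]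
      rw [show s ⊗ₜ[R] g = ι₁ s * ι₂ g by simp [ι₁, ι₂], map_mul ev]
      congr 1
      · exact eval_C _
      · have hh : ((MvPolynomial.aeval θ : MvPolynomial σ Ω →ₐ[Ω] Ω).restrictScalars R).comp
            (MvPolynomial.aeval X) = ev.comp ι₂ := MvPolynomial.algHom_ext fun s => by simp [θ, ι₂]
        have := congrArg (fun φ : MvPolynomial σ R →ₐ[R] Ω => φ g) hh
        simpa using this
    | add x y hx hy => simp [hx, hy]
  let G : Ideal (MvPolynomial σ K) := r.map (MvPolynomial.map (algebraMap R K))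
  have hG : (I.map μ.toRingHom) ≤ G.map (MvPolynomial.map (algebraMap K Ω)) := by
    rw [Ideal.map_map, Ideal.map_map]
    exact Ideal.map_le_iff_le_comap.2 fun g hg => by
      rw [Ideal.mem_comap, RingHom.comp_apply]
      have := Ideal.mem_map_of_mem ((MvPolynomial.map (algebraMap K Ω)).comp
        (MvPolynomial.map (σ := σ) (algebraMap R K))) hg
      exact (hμ₂ g).symm ▸ this
  have hθG : ∀ g ∈ G, MvPolynomial.aeval θ g = (0 : Ω) := by
    suffices G ≤ RingHom.ker (MvPolynomial.aeval θ : MvPolynomial σ K →ₐ[K] Ω) from fun g hg => this hg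
    refine Ideal.map_le_iff_le_comap.2 fun g hg => ?_
    rw [Ideal.mem_comap, RingHom.mem_ker]
    have h1 : ev (ι₂ g) = 0 := (hev _).2 (hr hg)
    rw [← hμ, hμ₂] at h1
    rw [MvPolynomial.aeval_def, ← MvPolynomial.eval_map]
    exact h1
  let b := Module.Basis.ofVectorSpace K Ω
  have hau : MvPolynomial.map (algebraMap K Ω) (MvPolynomial.map (algebraMap R K) a) * μ h ∈
      G.map (MvPolynomial.map (algebraMap K Ω)) := by
    refine hG ?_
    have := Ideal.mem_map_of_mem μ.toRingHom hzI
    rw [mul_comm, ← hμ₂]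
    simpa using this
  have hhne : eval θ (μ h) ≠ 0 := by rw [hμ]; exact fun e => hhp ((hev h).1 e)
  by_cases hyr : y ≤ r.comap (algebraMap R (MvPolynomial σ R))
  · -- the generization lies in the fibre
    refine hhne (eval_eq_zero_of_comp b θ _ fun i => ?_)
    have hmem : MvPolynomial.map (algebraMap R K) a * comp b i (μ h) ∈ G := by
      rw [← comp_map_mul]; exact comp_mem b hau i
    let F := FractionRing (MvPolynomial σ R ⧸ r)
    let π : MvPolynomial σ R →+* F :=
      (algebraMap (MvPolynomial σ R ⧸ r) F).comp (Ideal.Quotient.mk r)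
    have hπ : ∀ g, π g = 0 ↔ g ∈ r := fun g => by
      show algebraMap (MvPolynomial σ R ⧸ r) F _ = 0 ↔ _
      exact (map_eq_zero_iff _ (IsFractionRing.injective _ F)).trans Ideal.Quotient.eq_zero_iff_mem
    let kF : K →+* F := Ideal.ResidueField.lift y (π.comp C)
      (fun t ht => (hπ _).2 (hyr ht)) (fun t ht => isUnit_iff_ne_zero.2 fun e => ht (by
        have h1 : ev (ι₂ (C t)) = 0 := (hev _).2 (hr ((hπ _).1 e))
        rw [← MvPolynomial.algebraMap_eq, AlgHom.commutes, AlgHom.commutes] at h1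
        exact h1))
    let τ : MvPolynomial σ K →+* F := eval₂Hom kF fun s => π (X s)
    have hτ : ∀ g, τ (MvPolynomial.map (algebraMap R K) g) = π g := fun g => by
      have : τ.comp (MvPolynomial.map (σ := σ) (algebraMap R K)) = π := MvPolynomial.ringHom_ext
        (fun t => by simp only [τ, RingHom.comp_apply, MvPolynomial.map_C, eval₂Hom_C]
                     exact Ideal.ResidueField.lift_algebraMap _ _ _ _ t)
        (fun s => by simp [τ])
      exact RingHom.congr_fun this g
    have hτG : ∀ g ∈ G, τ g = 0 := by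
      suffices G ≤ RingHom.ker τ from fun g hg => this hg
      exact Ideal.map_le_iff_le_comap.2 fun g hg => by rw [Ideal.mem_comap, RingHom.mem_ker, hτ, hπ]; exact hg
    have hτu : τ (comp b i (μ h)) = 0 := by
      have := hτG _ hmem
      rw [map_mul, hτ, mul_eq_zero] at this
      exact this.resolve_left fun e => har ((hπ a).1 e)
    obtain ⟨s, hs, g, hg⟩ := exists_denom y (comp b i (μ h))
    have hgr : g ∈ r := (hπ g).1 (by rw [← hτ, ← hg, map_mul, hτu, mul_zero])
    have h1 := hθG _ (show MvPolynomial.map (algebraMap R K) g ∈ G from Ideal.mem_map_of_mem _ hgr)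
    rw [← hg, map_mul, aeval_C, hjK, mul_eq_zero] at h1
    exact h1.resolve_left hs
  -- the generization lies outside the fibre
  obtain ⟨c, hcy, hcr⟩ := SetLike.not_le_iff_exists.1 hyr
  let Kb := algebraicClosure K Ω
  haveI : IsAlgClosed Kb := (algebraicClosure.isAlgClosure K Ω).isAlgClosed
  haveI : IsScalarTower R Kb Ω := IsScalarTower.of_algebraMap_eq fun t => by
    rw [IsScalarTower.algebraMap_apply R K Kb, ← IsScalarTower.algebraMap_apply K Kb Ω, hjK]
  let G' : Ideal (MvPolynomial σ Kb) := G.map (MvPolynomial.map (algebraMap K Kb))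
  let b' := Module.Basis.ofVectorSpace Kb Ω
  have hexists : ∃ ω : σ → Kb, (∀ g ∈ G, MvPolynomial.aeval ω g = (0 : Kb)) ∧
      eval (fun s => algebraMap Kb Ω (ω s)) (μ h) ≠ 0 := by
    by_contra! hcon
    refine hhne (eval_eq_zero_of_comp b' θ _ fun i => ?_)
    have h1 : comp b' i (μ h) ∈ G'.radical := by
      rw [← MvPolynomial.vanishingIdeal_zeroLocus_eq_radical (K := Kb) G']
      intro ω hω
      show MvPolynomial.aeval ω (comp b' i (μ h)) = 0
      rw [MvPolynomial.aeval_eq_eval, eval_comp, hcon ω ?_, map_zero]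
      intro g hg
      have := hω _ (Ideal.mem_map_of_mem _ hg)
      rw [MvPolynomial.aeval_eq_eval, MvPolynomial.eval_map] at this
      rw [MvPolynomial.aeval_def]; exact this
    obtain ⟨n, hn⟩ := h1
    have h2 : G' ≤ RingHom.ker (MvPolynomial.aeval θ : MvPolynomial σ Kb →ₐ[Kb] Ω) := by
      refine Ideal.map_le_iff_le_comap.2 fun g hg => ?_
      rw [Ideal.mem_comap, RingHom.mem_ker, MvPolynomial.aeval_map_algebraMap]
      exact hθG g hg
    have h3 := h2 hn
    rw [RingHom.mem_ker, map_pow] at h3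
    exact (pow_eq_zero_iff'.1 h3).1
  obtain ⟨ω, hωG, hωh⟩ := hexists
  let Bω : MvPolynomial σ R →ₐ[R] Ω := MvPolynomial.aeval fun s => algebraMap Kb Ω (ω s)
  have hBω : ∀ g, Bω g = algebraMap Kb Ω (MvPolynomial.aeval ω g) := fun g =>
    (MvPolynomial.aeval_algebraMap_apply (B := Ω) ω g)
  let b₁ := RingHom.ker Bω
  haveI : b₁.IsPrime := RingHom.ker_isPrime _
  have hb₁y : b₁.comap (algebraMap R (MvPolynomial σ R)) = y := by
    ext t
    show Bω (algebraMap R _ t) = 0 ↔ _
    rw [Bω.commutes]; rfl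
  have hrb₁ : r ≤ b₁ := fun g hg => by
    rw [RingHom.mem_ker, hBω]
    have := hωG _ (show MvPolynomial.map (algebraMap R K) g ∈ G from Ideal.mem_map_of_mem _ hg)
    rw [MvPolynomial.aeval_map_algebraMap] at this
    rw [this, map_zero]
  let d := a * C c
  have hdr : d ∉ r := fun h => (hr'.mem_or_mem h).elim har hcr
  let Ws : Set (Ideal (MvPolynomial σ R)) := {q | q.IsPrime ∧ r ≤ q ∧ q ≤ b₁ ∧ d ∉ q}
  obtain ⟨w, ⟨hw, hrw, hwb, hdw⟩, hmax⟩ :=
    set_has_maximal_iff_noetherian.2 inferInstance Ws ⟨r, hr', le_rfl, hrb₁, hdr⟩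
  haveI : Ideal.IsPrime w := hw
  let P : Ideal (MvPolynomial σ R ⧸ w) := b₁.map (Ideal.Quotient.mk w)
  have hcomap : P.comap (Ideal.Quotient.mk w) = b₁ := by
    rw [Ideal.comap_map_of_surjective _ Ideal.Quotient.mk_surjective, ← RingHom.ker_eq_comap_bot,
      Ideal.mk_ker, sup_eq_left.2 hwb]
  haveI : P.IsPrime := Ideal.map_isPrime_of_surjective Ideal.Quotient.mk_surjective (by
    rw [Ideal.mk_ker]; exact hwb)
  have hd0 : Ideal.Quotient.mk w d ≠ 0 := fun e => hdw (Ideal.Quotient.eq_zero_iff_mem.1 e)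
  have hsmall : ∀ q : Ideal (MvPolynomial σ R ⧸ w), q.IsPrime → q ≤ P → q ≠ ⊥ → Ideal.Quotient.mk w d ∈ q := by
    intro q hq hqP hq0
    by_contra hdq
    have hwq : w ≤ q.comap (Ideal.Quotient.mk w) := fun g hg => by
      show Ideal.Quotient.mk w g ∈ q
      rw [Ideal.Quotient.eq_zero_iff_mem.2 hg]; exact q.zero_mem
    refine hmax _ ⟨Ideal.IsPrime.comap _, hrw.trans hwq, hcomap ▸ Ideal.comap_mono hqP, hdq⟩
      (lt_of_le_of_ne hwq fun e => hq0 ?_)
    rw [← Ideal.map_comap_of_surjective _ Ideal.Quotient.mk_surjective q, ← e, Ideal.map_quotient_self]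
  have hPy : P.comap (algebraMap R (MvPolynomial σ R ⧸ w)) = y := by
    rw [show algebraMap R (MvPolynomial σ R ⧸ w) = (Ideal.Quotient.mk w).comp (algebraMap R _) from rfl,
      ← Ideal.comap_comap, hcomap, hb₁y]
  have hdy : ∀ q : Ideal (MvPolynomial σ R ⧸ w), q.comap (algebraMap R (MvPolynomial σ R ⧸ w)) = y →
      Ideal.Quotient.mk w d ∈ q := fun q hq => by
    rw [map_mul]
    exact q.mul_mem_left _ (show c ∈ q.comap (algebraMap R (MvPolynomial σ R ⧸ w)) by rw [hq]; exact hcy)
  haveI : Algebra.FiniteType R (MvPolynomial σ R) := inferInstance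
  haveI : Algebra.FiniteType R (MvPolynomial σ R ⧸ w) :=
    .of_surjective (Ideal.Quotient.mkₐ R w) (Ideal.Quotient.mkₐ_surjective R w)
  have hqf : Algebra.QuasiFiniteAt R P := by
    refine quasiFiniteAt_of_isolated y P hPy
      (fun q hq hqy hqP => eq_of_forall_prime_le_mem hd0 P hsmall q hq (hdy q hqy) hqP)
      fun q hq hqy hPq => ?_
    have h1 : q.comap (Ideal.Quotient.mk w) = b₁ := by
      refine eq_of_algebraic_point Bω ?_ (q.comap (Ideal.Quotient.mk w)) ?_ ?_
      · intro g hne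
        have halg : IsAlgebraic K (Bω g) := by
          rw [hBω]
          exact (mem_algebraicClosure_iff.1 (MvPolynomial.aeval ω g).2)
        obtain ⟨f, hf0, hf⟩ := halg.exists_nonzero_coeff_and_aeval_eq_zero (mem_nonZeroDivisors_of_ne_zero hne)
        obtain ⟨s, hs⟩ := IsLocalization.exist_integer_multiples_of_finset (nonZeroDivisors (R ⧸ y))
          (Finset.image f.coeff (Finset.range (f.natDegree + 1)))
        have hs' : ∀ n, ∃ t : R, algebraMap R K t = algebraMap (R ⧸ y) K s * f.coeff n := fun n => by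
          by_cases hn : n ∈ Finset.range (f.natDegree + 1)
          · obtain ⟨⟨t⟩, ht⟩ := hs _ (Finset.mem_image_of_mem _ hn)
            exact ⟨t, ht⟩
          · rw [Finset.mem_range, Nat.lt_succ_iff, not_le] at hn
            exact ⟨0, by rw [Polynomial.coeff_eq_zero_of_natDegree_lt hn]; simp⟩
        choose t ht using hs'
        let fR : Polynomial R := ∑ n ∈ Finset.range (f.natDegree + 1), Polynomial.monomial n (t n)
        have hmap : fR.map (algebraMap R K) = Polynomial.C (algebraMap (R ⧸ y) K s) * f := by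
          conv_rhs => rw [f.as_sum_range' _ (Nat.lt_succ_self _), Finset.mul_sum]
          rw [Polynomial.map_sum]
          exact Finset.sum_congr rfl fun n _ => by rw [Polynomial.map_monomial, ht, Polynomial.C_mul_monomial]
        refine ⟨fR, ?_, ?_⟩
        · rw [← hjK, ← Polynomial.coeff_map, hmap, Polynomial.coeff_C_mul, map_ne_zero]
          exact mul_ne_zero (IsFractionRing.to_map_ne_zero_of_mem_nonZeroDivisors s.2) hf0
        · rw [← Polynomial.aeval_map_algebraMap K, hmap, map_mul, hf, mul_zero]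
      · exact hcomap.ge.trans (Ideal.comap_mono hPq)
      · rw [Ideal.comap_comap]; exact hqy
    rw [← Ideal.map_comap_of_surjective _ Ideal.Quotient.mk_surjective q, h1]
  obtain ⟨B', _, _, _, r₀, χ, ε, hεχ, hχ, hdom⟩ := exists_away_point Bω w hwb hqf
  let ψ : S ⊗[R] Localization.Away r₀ →ₐ[R] Ω :=
    Algebra.TensorProduct.lift (ev.comp ι₁) ε fun _ _ => Commute.all _ _
  let Θ : S ⊗[R] MvPolynomial σ R →ₐ[R] S ⊗[R] Localization.Away r₀ :=
    Algebra.TensorProduct.map (AlgHom.id R S) χ
  have hψΘ : ∀ x, ψ (Θ x) = eval (fun s => algebraMap Kb Ω (ω s)) (μ x) := by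
    intro x
    induction x using TensorProduct.induction_on with
    | zero => simp
    | tmul s g =>
      simp only [Θ, ψ, μ, Algebra.TensorProduct.map_tmul, Algebra.TensorProduct.lift_tmul, map_mul, hεχ]
      congr 1
      · exact (eval_C _).symm
      · have hh : ((MvPolynomial.aeval (fun s => algebraMap Kb Ω (ω s)) :
            MvPolynomial σ Ω →ₐ[Ω] Ω).restrictScalars R).comp (MvPolynomial.aeval X) = Bω :=
          MvPolynomial.algHom_ext fun s => by simp [Bω]
        have := congrArg (fun φ : MvPolynomial σ R →ₐ[R] Ω => φ g) hh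
        simpa using this.symm
    | add x y hx hy => simp [hx, hy]
  let Q : PrimeSpectrum (S ⊗[R] Localization.Away r₀) := ⟨RingHom.ker ψ, RingHom.ker_isPrime _⟩
  have hopen := H B' r₀ Q (by
    ext s
    show ψ (s ⊗ₜ[R] 1) = 0 ↔ (s ⊗ₜ[R] (1 : MvPolynomial σ R)) ∈ p
    rw [Algebra.TensorProduct.lift_tmul, map_one, mul_one, ← hev]
    rfl)
  have hnhd := hopen (PrimeSpectrum.basicOpen (Θ h) : Set _)
    ((PrimeSpectrum.basicOpen (Θ h)).isOpen.mem_nhds (show Θ h ∉ RingHom.ker ψ by
      rw [RingHom.mem_ker, hψΘ]; exact hωh))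
  obtain ⟨W, hWsub, hWo, hQW⟩ := mem_nhds_iff.1 hnhd
  haveI := hdom
  let η : PrimeSpectrum (Localization.Away r₀) := ⟨⊥, Ideal.isPrime_bot⟩
  have hη : η ∈ W := Specializes.mem_open ((PrimeSpectrum.le_iff_specializes η _).1 bot_le) hWo hQW
  obtain ⟨Q', hQ'h, hQ'⟩ := hWsub hη
  have hQ'w : ∀ g, Θ (ι₂ g) ∈ Q'.asIdeal ↔ g ∈ w := fun g => by
    have h1 : Θ (ι₂ g) = (1 : S) ⊗ₜ[R] χ g := by simp [Θ, ι₂]
    have h2 : χ g ∈ (PrimeSpectrum.comap
        (Algebra.TensorProduct.includeRight (R := R) (A := S)).toRingHom Q').asIdeal ↔ χ g = 0 := by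
      rw [hQ']; exact Ideal.mem_bot
    rw [h1]
    exact h2.trans (hχ g)
  have hI : I ≤ Q'.asIdeal.comap Θ.toRingHom :=
    Ideal.map_le_iff_le_comap.2 fun g hg => (hQ'w g).2 (hrw hg)
  have h3 : Θ h * Θ (ι₂ a) ∈ Q'.asIdeal := by
    rw [← map_mul]; exact hI hzI
  rcases Q'.2.mem_or_mem h3 with h4 | h4
  · exact hQ'h h4
  · exact hdw (Ideal.mul_mem_right _ w ((hQ'w a).1 h4))

end Groth.Agent.UnivOpenFin5
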