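import Groth.Agent.UnivOpen.Criterion
import Groth.Agent.UnivOpenFin5.Lift
import Groth.Agent.UnivOpenFin5.FiniteExtend
import Mathlib.AlgebraicGeometry.AffineSpace

/-!
# Universal openness is detected by finite base changes
-/

set_option autoImplicit false
set_option linter.style.haveILetI false

open AlgebraicGeometry CategoryTheory Limits
open scoped TensorProduct

namespace Groth.Agent.UnivOpenFin5

universe u

variable {X Y : Scheme.{u}}

/-- The affine chart of a base change. -/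
theorem exists_chart (f : X ⟶ Y) {R S T : Type u} [CommRing R] [CommRing S] [CommRing T] [Algebra R S] [Algebra R T]
    (iV : Spec (CommRingCat.of R) ⟶ Y) [IsOpenImmersion iV] (iU : Spec (CommRingCat.of S) ⟶ X) [IsOpenImmersion iU]
    (hf : Spec.map (CommRingCat.ofHom (algebraMap R S)) ≫ iV = iU ≫ f)
    {Y' : Scheme.{u}} (g : Y' ⟶ Y) (a : Spec (CommRingCat.of T) ⟶ Y') [IsOpenImmersion a]
    (ha : Spec.map (CommRingCat.ofHom (algebraMap R T)) ≫ iV = a ≫ g) :
    ∃ (j : Spec (CommRingCat.of (S ⊗[R] T)) ⟶ pullback f g), IsOpenImmersion j ∧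
      j ≫ pullback.fst f g = Spec.map (CommRingCat.ofHom Algebra.TensorProduct.includeLeftRingHom) ≫ iU ∧
      j ≫ pullback.snd f g =
        Spec.map (CommRingCat.ofHom (Algebra.TensorProduct.includeRight (R := R) (A := S) (B := T)).toRingHom) ≫ a ∧
      Set.range (pullback.fst f g) ⊇ Set.range (j ≫ pullback.fst f g) ∧
      ∀ z, (pullback.fst f g) z ∈ Set.range iU → (pullback.snd f g) z ∈ Set.range a → z ∈ Set.range j := by
  let m := pullback.map (Spec.map (CommRingCat.ofHom (algebraMap R S))) (Spec.map (CommRingCat.ofHom (algebraMap R T)))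
    f g iU a iV hf ha
  refine ⟨(pullbackSpecIso R S T).inv ≫ m, inferInstance, ?_, ?_, ?_, fun z hz1 hz2 => ?_⟩
  · rw [Category.assoc, pullback.lift_fst, pullbackSpecIso_inv_fst_assoc]
  · rw [Category.assoc, pullback.lift_snd, pullbackSpecIso_inv_snd_assoc]
    rfl
  · rw [Scheme.Hom.comp_base, TopCat.coe_comp]
    exact Set.range_comp_subset_range _ _
  · have hr : z ∈ Set.range m := by
      rw [Scheme.Pullback.range_map]
      exact ⟨hz1, hz2⟩
    obtain ⟨w, rfl⟩ := hr
    refine ⟨(pullbackSpecIso R S T).hom w, ?_⟩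
    rw [← Scheme.Hom.comp_apply, Iso.hom_inv_id_assoc]

/-- Openness over all finite base changes at the points over `x` gives universal openness at `x`. -/
theorem isUnivOpenAt_of_finite_baseChange [IsNoetherian Y] (f : X ⟶ Y) [LocallyOfFiniteType f] (x : X)
    (h : ∀ (Y' : Scheme.{u}) (g : Y' ⟶ Y) [IsFinite g], ∀ x' : ↥(pullback f g), (pullback.fst f g).base x' = x →
      EGA43.IsOpenAt (pullback.snd f g).base x') :
    EGA43.IsUnivOpenAt f x := by
  refine UnivOpen.isUnivOpenAt_of_affineSpace f x fun m x'' hx'' => ?_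
  let π := (𝔸(ULift.{u} (Fin m); Y) ↘ Y)
  haveI : IsLocallyNoetherian 𝔸(ULift.{u} (Fin m); Y) := LocallyOfFiniteType.isLocallyNoetherian π
  refine UnivOpen.isOpenAt_of_lifts (pullback.snd f π) x'' fun t ht => ?_
  obtain ⟨V, hV, hxV, -⟩ := exists_isAffineOpen_mem_and_subset (x := f x) (U := ⊤) trivial
  obtain ⟨U, hU, hxU, hUV⟩ := exists_isAffineOpen_mem_and_subset (x := x) (U := f ⁻¹ᵁ V) hxV
  letI : Algebra Γ(Y, V) Γ(X, U) := (f.appLE V U hUV).hom.toAlgebra
  haveI : IsNoetherianRing Γ(Y, V) := IsLocallyNoetherian.component_noetherian ⟨V, hV⟩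
  have hf : Spec.map (CommRingCat.ofHom (algebraMap Γ(Y, V) Γ(X, U))) ≫ hV.fromSpec = hU.fromSpec ≫ f :=
    IsAffineOpen.SpecMap_appLE_fromSpec f hV hU hUV
  let σ := ULift.{u} (Fin m)
  haveI : IsOpenImmersion (AffineSpace.map σ hV.fromSpec) :=
    MorphismProperty.of_isPullback (AffineSpace.isPullback_map (n := σ) hV.fromSpec).flip inferInstance
  let a : Spec (CommRingCat.of (MvPolynomial σ Γ(Y, V))) ⟶ 𝔸(σ; Y) :=
    (AffineSpace.SpecIso σ Γ(Y, V)).inv ≫ AffineSpace.map σ hV.fromSpec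
  have ha : Spec.map (CommRingCat.ofHom (algebraMap Γ(Y, V) (MvPolynomial σ Γ(Y, V)))) ≫ hV.fromSpec = a ≫ π := by
    rw [Category.assoc, AffineSpace.map_over, AffineSpace.SpecIso_inv_over_assoc]
    rfl
  obtain ⟨j, hj, hj1, hj2, -, hjr⟩ := exists_chart f hV.fromSpec hU.fromSpec hf π a ha
  haveI := hj
  have hra : Set.range a = π ⁻¹' (V : Set Y) := by
    rw [Scheme.Hom.comp_base, TopCat.coe_comp, Function.Surjective.range_comp
      (show Function.Surjective (AffineSpace.SpecIso σ Γ(Y, V)).inv from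
        (Scheme.homeoOfIso (AffineSpace.SpecIso σ Γ(Y, V)).symm).surjective)]
    rw [← hV.range_fromSpec]
    have hp := AffineSpace.isPullback_map (n := σ) hV.fromSpec
    rw [← hp.isoPullback_hom_fst, Scheme.Hom.comp_base, TopCat.coe_comp, Function.Surjective.range_comp
      (show Function.Surjective hp.isoPullback.hom from (Scheme.homeoOfIso hp.isoPullback).surjective)]
    exact Scheme.Pullback.range_fst π hV.fromSpec
  have hxa : (pullback.snd f π) x'' ∈ Set.range a := by
    rw [hra]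
    show π (pullback.snd f π x'') ∈ V
    have : (pullback.snd f π ≫ π) x'' = f x := by rw [← pullback.condition, Scheme.Hom.comp_apply, hx'']
    rw [← Scheme.Hom.comp_apply, this]
    exact hxV
  obtain ⟨p, rfl⟩ := hjr x'' (by rw [hU.range_fromSpec, hx'']; exact hxU) hxa
  have hpt : (pullback.snd f π) (j p) = a (PrimeSpectrum.comap
      (Algebra.TensorProduct.includeRight (R := Γ(Y, V)) (A := Γ(X, U))).toRingHom p) := by
    rw [← Scheme.Hom.comp_apply, hj2, Scheme.Hom.comp_apply]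
    rfl
  obtain ⟨rt, rfl⟩ : t ∈ Set.range a :=
    ht.mem_open a.isOpenEmbedding.isOpen_range hxa
  rw [hpt] at ht
  have hle : (rt : PrimeSpectrum (MvPolynomial σ Γ(Y, V))).asIdeal ≤
      (p : PrimeSpectrum (Γ(X, U) ⊗[Γ(Y, V)] MvPolynomial σ Γ(Y, V))).asIdeal.comap
        (Algebra.TensorProduct.includeRight (R := Γ(Y, V)) (A := Γ(X, U))).toRingHom :=
    (PrimeSpectrum.le_iff_specializes (rt : PrimeSpectrum (MvPolynomial σ Γ(Y, V))) _).2
      (a.isOpenEmbedding.isInducing.specializes_iff.1 ht)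
  haveI := (p : PrimeSpectrum (Γ(X, U) ⊗[Γ(Y, V)] MvPolynomial σ Γ(Y, V))).isPrime
  haveI := (rt : PrimeSpectrum (MvPolynomial σ Γ(Y, V))).isPrime
  have hpx : (Spec.map (CommRingCat.ofHom (Algebra.TensorProduct.includeLeftRingHom (R := Γ(Y, V))
      (A := Γ(X, U)) (B := MvPolynomial σ Γ(Y, V)))) ≫ hU.fromSpec) p = x := by
    rw [← hj1, Scheme.Hom.comp_apply]; exact hx''
  refine Exists.elim (exists_prime_lift
    (p : PrimeSpectrum (Γ(X, U) ⊗[Γ(Y, V)] MvPolynomial σ Γ(Y, V))).asIdeal ?hopen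
    (rt : PrimeSpectrum (MvPolynomial σ Γ(Y, V))).asIdeal hle) fun q hq' => ?hrest
  case hrest =>
    obtain ⟨hq, hqp, hqr⟩ := hq'
    let qq : Spec (CommRingCat.of (Γ(X, U) ⊗[Γ(Y, V)] MvPolynomial σ Γ(Y, V))) :=
      (⟨q, hq⟩ : PrimeSpectrum (Γ(X, U) ⊗[Γ(Y, V)] MvPolynomial σ Γ(Y, V)))
    refine ⟨j qq, Specializes.map ?_ j.continuous, ?_⟩
    · exact (PrimeSpectrum.le_iff_specializes (⟨q, hq⟩ : PrimeSpectrum _) _).1 hqp
    · rw [← Scheme.Hom.comp_apply, hj2, Scheme.Hom.comp_apply]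
      exact congrArg a (PrimeSpectrum.ext hqr)
  -- openness after a finite base change
  intro B' _ _ _ r₀ Q hQ
  haveI : IsFinite (Spec.map (CommRingCat.ofHom (algebraMap Γ(Y, V) B'))) :=
    (IsFinite.SpecMap_iff _).2 (RingHom.finite_algebraMap.2 inferInstance)
  obtain ⟨Y₁, g, i, hi, hg, hig⟩ := exists_finite_extend hV
    (Spec.map (CommRingCat.ofHom (algebraMap Γ(Y, V) B')) ≫ hV.isoSpec.inv)
  haveI := hi
  haveI := hg
  haveI : IsOpenImmersion (Spec.map (CommRingCat.ofHom (algebraMap B' (Localization.Away r₀)))) :=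
    IsOpenImmersion.of_isLocalization r₀
  let β : Spec (CommRingCat.of (Localization.Away r₀)) ⟶ Y₁ :=
    Spec.map (CommRingCat.ofHom (algebraMap B' (Localization.Away r₀))) ≫ i
  have hβ : Spec.map (CommRingCat.ofHom (algebraMap Γ(Y, V) (Localization.Away r₀))) ≫ hV.fromSpec = β ≫ g := by
    rw [Category.assoc, hig, Category.assoc, ← Spec.map_comp_assoc, ← CommRingCat.ofHom_comp,
      ← IsScalarTower.algebraMap_eq]
    rfl
  obtain ⟨j', hj', hj'1, hj'2, -, -⟩ := exists_chart f hV.fromSpec hU.fromSpec hf g β hβ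
  haveI := hj'
  have k1 : ∀ z, (pullback.fst f g) (j' z) = hU.fromSpec
      (Spec.map (CommRingCat.ofHom Algebra.TensorProduct.includeLeftRingHom) z) := fun z => by
    rw [← Scheme.Hom.comp_apply, hj'1, Scheme.Hom.comp_apply]
  have k2 : ∀ z, (pullback.snd f g) (j' z) = β (Spec.map (CommRingCat.ofHom (Algebra.TensorProduct.includeRight
      (R := Γ(Y, V)) (A := Γ(X, U)) (B := Localization.Away r₀)).toRingHom) z) := fun z => by
    rw [← Scheme.Hom.comp_apply, hj'2, Scheme.Hom.comp_apply]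
  have hopen := h Y₁ g (j' Q) ((k1 Q).trans ((congrArg hU.fromSpec (PrimeSpectrum.ext hQ)).trans
    ((Scheme.Hom.comp_apply _ _ _).symm.trans hpx)))
  intro N hN
  have h1 := hopen (j' '' N) (j'.isOpenEmbedding.isOpenMap.image_mem_nhds hN)
  have h2 : (pullback.snd f g).base '' (j'.base '' N) = β.base '' (PrimeSpectrum.comap
      (Algebra.TensorProduct.includeRight (R := Γ(Y, V)) (A := Γ(X, U))
        (B := Localization.Away r₀)).toRingHom '' N) :=
    (Set.image_image _ _ N).trans ((Set.image_congr fun z _ => k2 z).trans (Set.image_image _ _ N).symm)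
  erw [h2, k2 Q] at h1
  have h4 := β.continuous.continuousAt.preimage_mem_nhds h1
  erw [Set.preimage_image_eq _ β.isOpenEmbedding.injective] at h4
  exact h4

end Groth.Agent.UnivOpenFin5
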